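import Groth.Agent.FlatLocus.DescentPoint

/-!
# Unramified, smooth and etale points under base change
-/

set_option autoImplicit false
set_option linter.style.haveILetI false
set_option backward.isDefEq.respectTransparency false
set_option backward.defeqAttrib.useBackward true

universe u

open CategoryTheory CategoryTheory.Limits AlgebraicGeometry TensorProduct IsLocalRing

namespace Groth.Agent.PointBC

open Groth.Agent.FlatLocus

variable {X Y Y' : Scheme.{u}} (f : X ⟶ Y)

/-- Unramified at a point means unramified in the fibre. -/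
theorem formallyUnramified_iff_fibre [LocallyOfFiniteType f] (s : Y) (z : f.fiber s) :
    (f.stalkMap (f.fiberι s z)).hom.FormallyUnramified ↔
      ((f.fiberToSpecResidueField s).stalkMap z).hom.FormallyUnramified := by
  let x := f.fiberι s z
  let w := f.fiberToSpecResidueField s z
  let K := (Spec (Y.residueField s)).presheaf.stalk w
  have hpt : Y.fromSpecResidueField s w = f x := by
    rw [← Scheme.Hom.comp_apply, ← Scheme.Hom.comp_apply, f.fiber_fac s]
  let φ : Y.presheaf.stalk (f x) ⟶ K :=
    (Y.presheaf.stalkCongr (.of_eq hpt.symm)).hom ≫ (Y.fromSpecResidueField s).stalkMap w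
  have hcomp : φ ≫ (f.fiberToSpecResidueField s).stalkMap z =
      f.stalkMap x ≫ (f.fiberι s).stalkMap z := by
    rw [← Scheme.Hom.stalkMap_comp, Scheme.Hom.stalkMap_congr_hom _ _ (f.fiber_fac s) z,
      Scheme.Hom.stalkMap_comp, Category.assoc]
  have hφs : Function.Surjective φ :=
    ((Y.fromSpecResidueField s).stalkMap_surjective w).comp
      (ConcreteCategory.bijective_of_isIso (Y.presheaf.stalkCongr (.of_eq hpt.symm)).hom).2
  have hK : IsField K := by
    have hw : w = closedPoint (Y.residueField s) := f.fiberToSpecResidueField_apply s z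
    show IsField ((Spec (Y.residueField s)).presheaf.stalk w)
    rw [hw]
    exact MulEquiv.isField (Field.toIsField (Y.residueField s))
      (stalkClosedPointIso (Y.residueField s)).commRingCatIsoToRingEquiv.toMulEquiv
  letI := hK.toField
  have hker : RingHom.ker φ.hom = maximalIdeal (Y.presheaf.stalk (f x)) :=
    IsLocalRing.eq_maximalIdeal (RingHom.ker_isMaximal_of_surjective φ.hom hφs)
  let I := maximalIdeal (Y.presheaf.stalk (f x))
  let eA : Y.presheaf.stalk (f x) ⧸ I →+* K :=
    Ideal.Quotient.lift I φ.hom fun a ha => by rw [← RingHom.mem_ker, hker]; exact ha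
  have heA : Function.Bijective eA :=
    ⟨RingHom.lift_injective_of_ker_le_ideal I _ (le_of_eq hker), fun c => by
      obtain ⟨a, rfl⟩ := hφs c; exact ⟨Ideal.Quotient.mk I a, rfl⟩⟩
  letI := (f.stalkMap x).hom.toAlgebra
  have hiff := quotLift_iff RingHom.FormallyUnramified.respectsIso I ((f.fiberι s).stalkMap z).hom
    (fiberι_stalkMap_surjective f s z) (ker_fiberι_stalkMap f s z)
    ((f.fiberToSpecResidueField s).stalkMap z).hom eA heA
    (RingHom.ext fun a => ConcreteCategory.congr_hom hcomp a)
  refine ⟨fun h => hiff.mpr ?_, fun h =>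
    formallyUnramified_stalkMap_of_quotient f _ I le_rfl (hiff.mp h)⟩
  haveI : Algebra.FormallyUnramified _ _ := h
  exact RingHom.formallyUnramified_algebraMap.mpr inferInstance

lemma flat_stalkMap_spec_field {K L : CommRingCat.{u}} (hK : IsField K) (φ : K ⟶ L)
    (w : Spec L) : ((Spec.map φ).stalkMap w).hom.Flat := by
  letI := hK.toField
  haveI : Flat (Spec.map φ) := by
    rw [HasRingHomProperty.Spec_iff (P := @Flat)]
    letI := φ.hom.toAlgebra
    exact Module.Flat.of_free
  exact Flat.stalkMap (Spec.map φ) w

/-- A property of the base change near a point gives one of the fibre over a field extension. -/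
theorem exists_fibre_nhd (g : Y' ⟶ Y) (x' : ↑(pullback f g)) :
    let s' := pullback.snd f g x'
    let q := f.fiberToSpecResidueField (g s')
    let r := Spec.map (g.residueFieldMap s')
    ∃ w : ↑(pullback q r), f.fiberι (g s') (pullback.fst q r w) = pullback.fst f g x' ∧
      ∀ (P : MorphismProperty Scheme.{u}) [P.IsStableUnderBaseChange],
        (∃ U : (pullback f g).Opens, x' ∈ U ∧ P (U.ι ≫ pullback.snd f g)) →
          ∃ U : (pullback q r).Opens, w ∈ U ∧ P (U.ι ≫ pullback.snd q r) := by
  intro s' q r
  let j := Y'.fromSpecResidueField s'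
  have hr : r ≫ Y.fromSpecResidueField (g s') = j ≫ g :=
    Scheme.Hom.SpecMap_residueFieldMap_fromSpecResidueField g s'
  let m : pullback q r ⟶ pullback f g :=
    pullback.lift (pullback.fst q r ≫ f.fiberι (g s')) (pullback.snd q r ≫ j) (by
      rw [Category.assoc, Category.assoc, f.fiber_fac, ← hr, pullback.condition_assoc])
  have hm : IsPullback m (pullback.snd q r) (pullback.snd f g) j := by
    refine IsPullback.of_right ?_ (pullback.lift_snd _ _ _) (IsPullback.of_hasPullback f g)
    rw [pullback.lift_fst, ← hr]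
    exact (IsPullback.of_hasPullback q r).paste_horiz
      (IsPullback.of_hasPullback f (Y.fromSpecResidueField (g s')))
  obtain ⟨w, hw, -⟩ := Scheme.exists_preimage_of_isPullback hm x'
    (closedPoint (Y'.residueField s'))
    (Y'.fromSpecResidueField_apply s' _).symm
  refine ⟨w, ?_, fun P _ h => exists_nhd_of_isPullback hm w (by rwa [hw])⟩
  have h1 : f.fiberι (g s') (pullback.fst q r w) = pullback.fst f g (m w) := by
    have h2 : m ≫ pullback.fst f g = pullback.fst q r ≫ f.fiberι (g s') := pullback.lift_fst _ _ _
    exact (congr($(h2) w)).symm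
  exact h1.trans (congrArg _ hw)

variable (g : Y' ⟶ Y) (x' : ↑(pullback f g))

/-- The unramified locus commutes with base change. -/
theorem formallyUnramified_nhd_iff [LocallyOfFiniteType f] :
    (∃ U' : (pullback f g).Opens, x' ∈ U' ∧ FormallyUnramified (U'.ι ≫ pullback.snd f g)) ↔
      (∃ U : X.Opens, pullback.fst f g x' ∈ U ∧ FormallyUnramified (U.ι ≫ f)) := by
  refine ⟨fun h => ?_, exists_nhd_of_isPullback (P := @FormallyUnramified)
    (IsPullback.of_hasPullback f g) x'⟩
  obtain ⟨w, hw, key⟩ := exists_fibre_nhd f g x'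
  haveI : LocallyOfFinitePresentation (f.fiberToSpecResidueField (g (pullback.snd f g x'))) :=
    LocallyOfFinitePresentation.iff_locallyOfFiniteType.mpr
      (MorphismProperty.pullback_snd _ _ inferInstance)
  rw [exists_formallyUnramified_nhd_iff, ← hw, formallyUnramified_iff_fibre]
  exact (stalkMap_of_baseChange_flat _ _ w
    (flat_stalkMap_spec_field (Field.toIsField _) _ _)).2 (key _ h)

variable [LocallyOfFinitePresentation f]

/-- A smooth point of a base change gives a smooth point for a flat morphism. -/
theorem formallySmooth_of_flat [Flat f]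
    (h : ∃ U' : (pullback f g).Opens, x' ∈ U' ∧ Smooth (U'.ι ≫ pullback.snd f g)) :
    (f.stalkMap (pullback.fst f g x')).hom.FormallySmooth := by
  obtain ⟨w, hw, key⟩ := exists_fibre_nhd f g x'
  haveI : LocallyOfFinitePresentation (f.fiberToSpecResidueField (g (pullback.snd f g x'))) :=
    MorphismProperty.pullback_snd _ _ inferInstance
  rw [← hw, mem_smoothLocus_iff_fibre]
  exact ⟨Flat.stalkMap f _, (stalkMap_of_baseChange_flat _ _ w
    (flat_stalkMap_spec_field (Field.toIsField _) _ _)).1 (key _ h)⟩

theorem smooth_nhd_iff (hflat : Flat f ∨ Flat g) :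
    (∃ U' : (pullback f g).Opens, x' ∈ U' ∧ Smooth (U'.ι ≫ pullback.snd f g)) ↔
      (∃ U : X.Opens, pullback.fst f g x' ∈ U ∧ Smooth (U.ι ≫ f)) := by
  refine ⟨fun h => (exists_smooth_nhd_iff f _).mpr ?_,
    exists_nhd_of_isPullback (P := @Smooth) (IsPullback.of_hasPullback f g) x'⟩
  rcases hflat with hf | hg
  · exact formallySmooth_of_flat f g x' h
  · exact (stalkMap_of_baseChange_flat f g x' (Flat.stalkMap g _)).1 h

theorem etale_nhd_iff [Flat f] :
    (∃ U' : (pullback f g).Opens, x' ∈ U' ∧ Etale (U'.ι ≫ pullback.snd f g)) ↔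
      (∃ U : X.Opens, pullback.fst f g x' ∈ U ∧ Etale (U.ι ≫ f)) := by
  refine ⟨fun ⟨U', hx, h⟩ => (exists_etale_nhd_iff f _).mpr
      ⟨formallySmooth_of_flat f g x' ⟨U', hx, inferInstance⟩, ?_⟩,
    exists_nhd_of_isPullback (P := @Etale) (IsPullback.of_hasPullback f g) x'⟩
  exact (exists_formallyUnramified_nhd_iff f _).mp
    ((formallyUnramified_nhd_iff f g x').mp ⟨U', hx, inferInstance⟩)

end Groth.Agent.PointBC
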